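import Cfsg.Agent.Fs.PUna

/-! Unitary type: the exceptional isomorphism in dimension four. -/

set_option autoImplicit false
set_option linter.unusedSectionVars false
set_option synthInstance.maxSize 4000
set_option maxRecDepth 4000

namespace Cfsg.Agent.H3.TTC

open Matrix Cfsg.Agent.H6

variable {G : Type*} [Group G] [Finite G] {T : TTC G} {X : Set T.Pt}

/-- vectors of length five -/
abbrev UoZ : Type := ZMod 3 × ZMod 3 × ZMod 3 × ZMod 3 × ZMod 3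

/-- the table of the isomorphism -/
def uoT : F4 → F4 → F4 → F4 → UoZ
  | .o, .o, .i, .i => (0, 0, 0, 0, 1)
  | .o, .o, .i, .w => (0, 1, 1, 1, 1)
  | .o, .o, .i, .v => (0, 1, 1, 1, 2)
  | .o, .o, .w, .i => (0, 1, 1, 1, 2)
  | .o, .o, .w, .w => (0, 0, 0, 0, 1)
  | .o, .o, .w, .v => (0, 1, 1, 1, 1)
  | .o, .o, .v, .i => (0, 1, 1, 1, 1)
  | .o, .o, .v, .w => (0, 1, 1, 1, 2)
  | .o, .o, .v, .v => (0, 0, 0, 0, 1)
  | .o, .i, .o, .i => (1, 0, 1, 2, 1)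
  | .o, .i, .o, .w => (1, 2, 0, 1, 1)
  | .o, .i, .o, .v => (1, 1, 2, 0, 1)
  | .o, .i, .i, .o => (1, 0, 1, 2, 2)
  | .o, .i, .w, .o => (1, 2, 0, 1, 2)
  | .o, .i, .v, .o => (1, 1, 2, 0, 2)
  | .o, .w, .o, .i => (1, 1, 2, 0, 1)
  | .o, .w, .o, .w => (1, 0, 1, 2, 1)
  | .o, .w, .o, .v => (1, 2, 0, 1, 1)
  | .o, .w, .i, .o => (1, 1, 2, 0, 2)
  | .o, .w, .w, .o => (1, 0, 1, 2, 2)
  | .o, .w, .v, .o => (1, 2, 0, 1, 2)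
  | .o, .v, .o, .i => (1, 2, 0, 1, 1)
  | .o, .v, .o, .w => (1, 1, 2, 0, 1)
  | .o, .v, .o, .v => (1, 0, 1, 2, 1)
  | .o, .v, .i, .o => (1, 2, 0, 1, 2)
  | .o, .v, .w, .o => (1, 1, 2, 0, 2)
  | .o, .v, .v, .o => (1, 0, 1, 2, 2)
  | .i, .o, .o, .i => (1, 0, 2, 1, 2)
  | .i, .o, .o, .w => (1, 1, 0, 2, 2)
  | .i, .o, .o, .v => (1, 2, 1, 0, 2)
  | .i, .o, .i, .o => (1, 0, 2, 1, 1)
  | .i, .o, .w, .o => (1, 1, 0, 2, 1)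
  | .i, .o, .v, .o => (1, 2, 1, 0, 1)
  | .i, .i, .o, .o => (1, 0, 0, 0, 0)
  | .i, .i, .i, .i => (0, 1, 0, 0, 0)
  | .i, .i, .i, .w => (0, 1, 1, 2, 2)
  | .i, .i, .i, .v => (0, 1, 2, 1, 1)
  | .i, .i, .w, .i => (0, 1, 1, 2, 1)
  | .i, .i, .w, .w => (0, 0, 1, 0, 0)
  | .i, .i, .w, .v => (0, 1, 2, 2, 1)
  | .i, .i, .v, .i => (0, 1, 2, 1, 2)
  | .i, .i, .v, .w => (0, 1, 2, 2, 2)
  | .i, .i, .v, .v => (0, 0, 0, 1, 0)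
  | .i, .w, .o, .o => (1, 2, 2, 2, 0)
  | .i, .w, .i, .i => (1, 1, 2, 1, 0)
  | .i, .w, .i, .w => (1, 0, 2, 2, 2)
  | .i, .w, .i, .v => (1, 2, 2, 0, 1)
  | .i, .w, .w, .i => (1, 0, 2, 2, 1)
  | .i, .w, .w, .w => (1, 1, 1, 2, 0)
  | .i, .w, .w, .v => (1, 2, 0, 2, 2)
  | .i, .w, .v, .i => (1, 2, 2, 0, 2)
  | .i, .w, .v, .w => (1, 2, 0, 2, 1)
  | .i, .w, .v, .v => (1, 2, 1, 1, 0)
  | .i, .v, .o, .o => (1, 1, 1, 1, 0)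
  | .i, .v, .i, .i => (1, 2, 2, 1, 0)
  | .i, .v, .i, .w => (1, 1, 0, 1, 1)
  | .i, .v, .i, .v => (1, 0, 1, 1, 2)
  | .i, .v, .w, .i => (1, 1, 0, 1, 2)
  | .i, .v, .w, .w => (1, 1, 2, 2, 0)
  | .i, .v, .w, .v => (1, 1, 1, 0, 1)
  | .i, .v, .v, .i => (1, 0, 1, 1, 1)
  | .i, .v, .v, .w => (1, 1, 1, 0, 2)
  | .i, .v, .v, .v => (1, 2, 1, 2, 0)
  | .w, .o, .o, .i => (1, 2, 1, 0, 2)
  | .w, .o, .o, .w => (1, 0, 2, 1, 2)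
  | .w, .o, .o, .v => (1, 1, 0, 2, 2)
  | .w, .o, .i, .o => (1, 2, 1, 0, 1)
  | .w, .o, .w, .o => (1, 0, 2, 1, 1)
  | .w, .o, .v, .o => (1, 1, 0, 2, 1)
  | .w, .i, .o, .o => (1, 1, 1, 1, 0)
  | .w, .i, .i, .i => (1, 2, 1, 2, 0)
  | .w, .i, .i, .w => (1, 0, 1, 1, 1)
  | .w, .i, .i, .v => (1, 1, 1, 0, 2)
  | .w, .i, .w, .i => (1, 0, 1, 1, 2)
  | .w, .i, .w, .w => (1, 2, 2, 1, 0)
  | .w, .i, .w, .v => (1, 1, 0, 1, 1)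
  | .w, .i, .v, .i => (1, 1, 1, 0, 1)
  | .w, .i, .v, .w => (1, 1, 0, 1, 2)
  | .w, .i, .v, .v => (1, 1, 2, 2, 0)
  | .w, .w, .o, .o => (1, 0, 0, 0, 0)
  | .w, .w, .i, .i => (0, 0, 0, 1, 0)
  | .w, .w, .i, .w => (0, 1, 2, 1, 2)
  | .w, .w, .i, .v => (0, 1, 2, 2, 2)
  | .w, .w, .w, .i => (0, 1, 2, 1, 1)
  | .w, .w, .w, .w => (0, 1, 0, 0, 0)
  | .w, .w, .w, .v => (0, 1, 1, 2, 2)
  | .w, .w, .v, .i => (0, 1, 2, 2, 1)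
  | .w, .w, .v, .w => (0, 1, 1, 2, 1)
  | .w, .w, .v, .v => (0, 0, 1, 0, 0)
  | .w, .v, .o, .o => (1, 2, 2, 2, 0)
  | .w, .v, .i, .i => (1, 2, 1, 1, 0)
  | .w, .v, .i, .w => (1, 2, 2, 0, 2)
  | .w, .v, .i, .v => (1, 2, 0, 2, 1)
  | .w, .v, .w, .i => (1, 2, 2, 0, 1)
  | .w, .v, .w, .w => (1, 1, 2, 1, 0)
  | .w, .v, .w, .v => (1, 0, 2, 2, 2)
  | .w, .v, .v, .i => (1, 2, 0, 2, 2)
  | .w, .v, .v, .w => (1, 0, 2, 2, 1)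
  | .w, .v, .v, .v => (1, 1, 1, 2, 0)
  | .v, .o, .o, .i => (1, 1, 0, 2, 2)
  | .v, .o, .o, .w => (1, 2, 1, 0, 2)
  | .v, .o, .o, .v => (1, 0, 2, 1, 2)
  | .v, .o, .i, .o => (1, 1, 0, 2, 1)
  | .v, .o, .w, .o => (1, 2, 1, 0, 1)
  | .v, .o, .v, .o => (1, 0, 2, 1, 1)
  | .v, .i, .o, .o => (1, 2, 2, 2, 0)
  | .v, .i, .i, .i => (1, 1, 1, 2, 0)
  | .v, .i, .i, .w => (1, 2, 0, 2, 2)
  | .v, .i, .i, .v => (1, 0, 2, 2, 1)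
  | .v, .i, .w, .i => (1, 2, 0, 2, 1)
  | .v, .i, .w, .w => (1, 2, 1, 1, 0)
  | .v, .i, .w, .v => (1, 2, 2, 0, 2)
  | .v, .i, .v, .i => (1, 0, 2, 2, 2)
  | .v, .i, .v, .w => (1, 2, 2, 0, 1)
  | .v, .i, .v, .v => (1, 1, 2, 1, 0)
  | .v, .w, .o, .o => (1, 1, 1, 1, 0)
  | .v, .w, .i, .i => (1, 1, 2, 2, 0)
  | .v, .w, .i, .w => (1, 1, 1, 0, 1)
  | .v, .w, .i, .v => (1, 1, 0, 1, 2)
  | .v, .w, .w, .i => (1, 1, 1, 0, 2)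
  | .v, .w, .w, .w => (1, 2, 1, 2, 0)
  | .v, .w, .w, .v => (1, 0, 1, 1, 1)
  | .v, .w, .v, .i => (1, 1, 0, 1, 1)
  | .v, .w, .v, .w => (1, 0, 1, 1, 2)
  | .v, .w, .v, .v => (1, 2, 2, 1, 0)
  | .v, .v, .o, .o => (1, 0, 0, 0, 0)
  | .v, .v, .i, .i => (0, 0, 1, 0, 0)
  | .v, .v, .i, .w => (0, 1, 2, 2, 1)
  | .v, .v, .i, .v => (0, 1, 1, 2, 1)
  | .v, .v, .w, .i => (0, 1, 2, 2, 2)
  | .v, .v, .w, .w => (0, 0, 0, 1, 0)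
  | .v, .v, .w, .v => (0, 1, 2, 1, 2)
  | .v, .v, .v, .i => (0, 1, 1, 2, 2)
  | .v, .v, .v, .w => (0, 1, 2, 1, 1)
  | .v, .v, .v, .v => (0, 1, 0, 0, 0)
  | _, _, _, _ => (0, 0, 0, 0, 0)

/-- the standard form on vectors of length five -/
def uoB (x y : UoZ) : ZMod 3 :=
  x.1 * y.1 + x.2.1 * y.2.1 + x.2.2.1 * y.2.2.1 + x.2.2.2.1 * y.2.2.2.1 + x.2.2.2.2 * y.2.2.2.2

/-- the reflection -/
def uoR (x y : UoZ) : UoZ := (x.1 + uoB x y * y.1, x.2.1 + uoB x y * y.2.1,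
  x.2.2.1 + uoB x y * y.2.2.1, x.2.2.2.1 + uoB x y * y.2.2.2.1, x.2.2.2.2 + uoB x y * y.2.2.2.2)

/-- the negative -/
def uoN (x : UoZ) : UoZ := (-x.1, -x.2.1, -x.2.2.1, -x.2.2.2.1, -x.2.2.2.2)

/-- tuples as functions -/
def uoV (x : UoZ) : Fin 5 → ZMod 3 := ![x.1, x.2.1, x.2.2.1, x.2.2.2.1, x.2.2.2.2]

/-- the hermitian form in dimension four -/
def uoH (a b c d e f g h : F4) : F4 := a * F4.cj e + b * F4.cj f + c * F4.cj g + d * F4.cj h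

/-- nonzero isotropic vectors -/
def uoI (a b c d : F4) : Prop := ¬ (a = 0 ∧ b = 0 ∧ c = 0 ∧ d = 0) ∧ uoH a b c d a b c d = 0

instance uoDec (a b c d : F4) : Decidable (uoI a b c d) := inferInstanceAs (Decidable (_ ∧ _))

theorem uo_norm : ∀ a b c d, uoI a b c d → uoB (uoT a b c d) (uoT a b c d) = 1 := by
  decide +kernel

theorem uo_scale : ∀ l : F4, l ≠ 0 → ∀ a b c d,
    uoT (l * a) (l * b) (l * c) (l * d) = uoT a b c d := by decide +kernel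

theorem uo_inj : ∀ a b c d, uoI a b c d → ∀ e f g h, uoI e f g h →
    uoT a b c d = uoT e f g h ∨ uoT a b c d = uoN (uoT e f g h) →
    ∃ l, l ≠ 0 ∧ e = l * a ∧ f = l * b ∧ g = l * c ∧ h = l * d := by decide +kernel

theorem uo_cm : ∀ a b c d, uoI a b c d → ∀ e f g h, uoI e f g h →
    uoT a b c d = uoT e f g h ∨ (uoH a b c d e f g h = 0 ↔ uoB (uoT a b c d) (uoT e f g h) = 0) := by
  decide +kernel

theorem uo_rf : ∀ a b c d, uoI a b c d → ∀ e f g h, uoI e f g h →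
    uoT (a + uoH a b c d e f g h * e) (b + uoH a b c d e f g h * f) (c + uoH a b c d e f g h * g)
      (d + uoH a b c d e f g h * h) = uoR (uoT a b c d) (uoT e f g h) ∨
    uoT (a + uoH a b c d e f g h * e) (b + uoH a b c d e f g h * f) (c + uoH a b c d e f g h * g)
      (d + uoH a b c d e f g h * h) = uoN (uoR (uoT a b c d) (uoT e f g h)) := by
  decide +kernel

theorem uo_surj : ∀ a b c d e : ZMod 3, uoB (a, b, c, d, e) (a, b, c, d, e) = 1 →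
    ∃ p q r s, uoI p q r s ∧ (uoT p q r s = (a, b, c, d, e) ∨ uoT p q r s = uoN (a, b, c, d, e)) := by
  decide +kernel

theorem uo_b3 (x y : UoZ) : b3 1 (uoV x) (uoV y) = uoB x y := by
  simp [b3, uoV, uoB, Fin.sum_univ_five]

theorem uo_vN (x : UoZ) : uoV (uoN x) = -uoV x := by
  funext i
  fin_cases i <;> simp [uoV, uoN]

theorem uo_vR (x y : UoZ) : uoV (uoR x y) = uoV x + b3 1 (uoV x) (uoV y) • uoV y := by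
  rw [uo_b3]
  funext i
  fin_cases i <;> simp [uoV, uoR]

theorem uo_vinj {x y : UoZ} (h : uoV x = uoV y) : x = y :=
  Prod.ext (congrFun h 0) (Prod.ext (congrFun h 1) (Prod.ext (congrFun h 2)
    (Prod.ext (congrFun h 3) (congrFun h 4))))

theorem uo_form (u v : Fin 4 → F4) : sf (F4.τ : F4 →+* F4) 1 u v =
    uoH (u 0) (u 1) (u 2) (u 3) (v 0) (v 1) (v 2) (v 3) := by
  rw [un_form, Fin.sum_univ_four, uoH]

theorem uo_par {u v : Fin 4 → F4} (h : Par u v) :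
    uoT (v 0) (v 1) (v 2) (v 3) = uoT (u 0) (u 1) (u 2) (u 3) := by
  obtain ⟨c, hc, rfl⟩ := h
  exact uo_scale c hc _ _ _ _

/-- the exceptional isomorphism `U₄(2) ≅ O₅(3)` -/
theorem UnE.o3 (h : UnE 4 X) : O3 1 5 X := by
  obtain ⟨ψ, h⟩ := h
  have hI : ∀ p ∈ X, uoI (ψ p 0) (ψ p 1) (ψ p 2) (ψ p 3) := fun p hp =>
    ⟨fun ⟨h0, h1, h2, h3⟩ => h.ne p hp (funext fun i => by fin_cases i <;> assumption),
      (uo_form _ _).symm.trans (h.iso hp)⟩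
  have hinj : ∀ p ∈ X, ∀ q ∈ X, uoT (ψ p 0) (ψ p 1) (ψ p 2) (ψ p 3) =
      uoT (ψ q 0) (ψ q 1) (ψ q 2) (ψ q 3) ∨ uoT (ψ p 0) (ψ p 1) (ψ p 2) (ψ p 3) =
      uoN (uoT (ψ q 0) (ψ q 1) (ψ q 2) (ψ q 3)) → p = q := fun p hp q hq e => by
    obtain ⟨l, hl, h0, h1, h2, h3⟩ := uo_inj _ _ _ _ (hI p hp) _ _ _ _ (hI q hq) e
    exact h.inj p hp q hq ⟨l, hl, funext fun i => by fin_cases i <;> assumption⟩
  refine ⟨fun p => uoV (uoT (ψ p 0) (ψ p 1) (ψ p 2) (ψ p 3)), h.cl, fun p hp => ?_,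
    fun p hp q hq e => hinj p hp q hq ?_, fun v hv => ?_, fun p hp q hq hne => ?_,
    fun d hd p hp => ?_⟩
  · rw [uo_b3]; exact uo_norm _ _ _ _ (hI p hp)
  · rw [← uo_vN] at e
    exact e.imp uo_vinj uo_vinj
  · have e : v = uoV (v 0, v 1, v 2, v 3, v 4) := funext fun i => by fin_cases i <;> rfl
    rw [e, uo_b3] at hv
    obtain ⟨p, q, r, s, h1, h2⟩ := uo_surj _ _ _ _ _ hv
    obtain ⟨x, hx, e1⟩ := h.surj ![p, q, r, s] (fun h0 => h1.1 ⟨congrFun h0 0, congrFun h0 1,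
      congrFun h0 2, congrFun h0 3⟩) ((uo_form _ _).trans h1.2)
    refine ⟨x, hx, ?_⟩
    rw [← uo_par e1, e, ← uo_vN]
    exact h2.imp (congrArg uoV) (congrArg uoV)
  · rw [h.cm_iff p hp q hq, uo_form, uo_b3]
    exact (uo_cm _ _ _ _ (hI p hp) _ _ _ _ (hI q hq)).resolve_left
      fun e => hne (hinj p hp q hq (Or.inl e))
  · rw [uo_par (h.rf d hd p hp), ← uo_vR, ← uo_vN, uo_form]
    exact (uo_rf _ _ _ _ (hI p hp) _ _ _ _ (hI d hd)).imp (congrArg uoV) (congrArg uoV)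

end Cfsg.Agent.H3.TTC
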